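import Mathlib
import Groth.Agent.FinIntClosure.Basic

/-!
Finite extensions of reduced one-dimensional rings with bijection on primes and trivial residue extensions.
-/

set_option autoImplicit false
set_option linter.style.haveILetI false
set_option linter.unusedSectionVars false
set_option maxHeartbeats 1000000

universe u

namespace Groth.Agent.DualChainLib

variable {A B : Type u} [CommRing A] [CommRing B] [Algebra A B]

variable (A B) in
/-- Bijective on primes, with the same residue fields. -/
structure IsSub : Prop where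
  surj : ∀ p : Ideal A, p.IsPrime → ∃ q : Ideal B, q.IsPrime ∧ q.comap (algebraMap A B) = p
  uniq : ∀ q q' : Ideal B, q.IsPrime → q'.IsPrime →
    q.comap (algebraMap A B) = q'.comap (algebraMap A B) → q = q'
  res : ∀ q : Ideal B, q.IsPrime → ∀ b : B, ∃ a s : A, algebraMap A B s ∉ q ∧
    algebraMap A B s * b - algebraMap A B a ∈ q

theorem injective [IsReduced A] (h : IsSub A B) : Function.Injective (algebraMap A B) := by
  refine (injective_iff_map_eq_zero _).2 fun a ha => IsReduced.eq_zero _ (mem_nilradical.1 ?_)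
  rw [nilradical_eq_sInf, Ideal.mem_sInf]
  intro p hp
  obtain ⟨q, -, hqp⟩ := h.surj p hp
  rw [← hqp, Ideal.mem_comap, ha]
  exact zero_mem _

/-- Over a minimal prime every element has a denominator. -/
theorem exists_denom [IsReduced B] (h : IsSub A B) (p : Ideal A) (hp : p ∈ minimalPrimes A) (b : B) :
    ∃ t ∉ p, algebraMap A B t * b ∈ Set.range (algebraMap A B) := by
  classical
  have hp' : p.IsPrime := hp.1.1
  obtain ⟨q, hq, hqp⟩ := h.surj p hp'
  obtain ⟨a, s, hs, hd⟩ := h.res q hq b
  let y := algebraMap A B s * b - algebraMap A B a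
  suffices hy : ∃ t ∉ p, algebraMap A B t * y = 0 by
    obtain ⟨t, ht, hty⟩ := hy
    refine ⟨t * s, fun hh => (hp'.mem_or_mem hh).elim ht fun h1 => hs ?_, t * a, ?_⟩
    · rw [← hqp] at h1; exact h1
    · rw [map_mul, map_mul]
      linear_combination -hty
  by_contra! hcon
  let M : Submonoid B := Submonoid.map (algebraMap A B) p.primeCompl ⊔ Submonoid.powers y
  have hM : Disjoint ((⊥ : Ideal B) : Set B) (M : Set B) := by
    rw [Set.disjoint_left]
    intro z hz hzM
    obtain ⟨_, ⟨t, ht, rfl⟩, _, ⟨n, rfl⟩, rfl⟩ := Submonoid.mem_sup.1 hzM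
    refine hcon t ht (IsReduced.eq_zero _ ⟨n + 1, ?_⟩)
    have hz0 : algebraMap A B t * y ^ n = 0 := hz
    rw [show (algebraMap A B t * y) ^ (n + 1) = algebraMap A B t ^ n * y * (algebraMap A B t * y ^ n) by ring, hz0,
      mul_zero]
  obtain ⟨P, hP, -, hPM⟩ := Ideal.exists_le_prime_disjoint ⊥ M hM
  have hPp : P.comap (algebraMap A B) ≤ p := fun t ht => by
    by_contra htp
    exact Set.disjoint_left.1 hPM ht (Submonoid.mem_sup_left ⟨t, htp, rfl⟩)
  have hPe : P.comap (algebraMap A B) = p := le_antisymm hPp (hp.2 ⟨hP.comap _, bot_le⟩ hPp)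
  have := h.uniq P q hP hq (hPe.trans hqp.symm)
  exact Set.disjoint_left.1 hPM (this ▸ hd : y ∈ P) (Submonoid.mem_sup_right (Submonoid.mem_powers y))

/-- Such an extension is finite, for a reduced algebra of finite type over a field. -/
theorem finite (k : Type u) [Field k] [Algebra k A] [Algebra.FiniteType k A] [IsReduced B] [Algebra.IsIntegral A B]
    (h : IsSub A B) : Module.Finite A B := by
  classical
  haveI : IsNoetherianRing A := Algebra.FiniteType.isNoetherianRing k A
  haveI : Finite (minimalPrimes A) := (minimalPrimes.finite_of_isNoetherianRing A).to_subtype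
  have hpr : ∀ p : minimalPrimes A, p.1.IsPrime := fun p => p.2.1.1
  choose q hq hqp using fun p : minimalPrimes A => h.surj p.1 (hpr p)
  haveI := hq
  haveI := hpr
  haveI : ∀ p, (q p).LiesOver p.1 := fun p => ⟨(hqp p).symm⟩
  letI algQ : ∀ p : minimalPrimes A, Algebra (A ⧸ p.1) (q p).ResidueField := fun p =>
    (Ideal.Quotient.lift p.1 (algebraMap A (q p).ResidueField) fun a ha => by
      rw [IsScalarTower.algebraMap_apply A B (q p).ResidueField, Ideal.algebraMap_residueField_eq_zero, ← Ideal.mem_comap, hqp]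
      exact ha).toAlgebra
  haveI towQ : ∀ p : minimalPrimes A, IsScalarTower A (A ⧸ p.1) (q p).ResidueField := fun p =>
    IsScalarTower.of_algebraMap_eq fun _ => rfl
  have hCfin : ∀ p : minimalPrimes A, Module.Finite (A ⧸ p.1) (integralClosure (A ⧸ p.1) (q p).ResidueField) := fun p => by
    letI : Algebra p.1.ResidueField (q p).ResidueField :=
      (Ideal.ResidueField.map p.1 (q p) (algebraMap A B) (hqp p).symm).toAlgebra
    haveI : IsScalarTower (A ⧸ p.1) p.1.ResidueField (q p).ResidueField := IsScalarTower.of_algebraMap_eq' (by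
      refine Ideal.Quotient.ringHom_ext (RingHom.ext fun a => ?_)
      show algebraMap (A ⧸ p.1) (q p).ResidueField (Ideal.Quotient.mk _ a) =
        Ideal.ResidueField.map p.1 (q p) (algebraMap A B) (hqp p).symm (algebraMap (A ⧸ p.1) p.1.ResidueField (Ideal.Quotient.mk _ a))
      rw [Ideal.algebraMap_quotient_residueField_mk, Ideal.ResidueField.map_algebraMap]
      rfl)
    have hsurj : Function.Surjective (algebraMap p.1.ResidueField (q p).ResidueField) := by
      intro z
      have key : ∀ b : B, ∃ c, Ideal.ResidueField.map p.1 (q p) (algebraMap A B) (hqp p).symm c = algebraMap B _ b := by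
        intro b
        obtain ⟨a, s, hs, hd⟩ := h.res (q p) (hq p) b
        have h1 : algebraMap B (q p).ResidueField (algebraMap A B s) ≠ 0 := fun h0 => hs (Ideal.algebraMap_residueField_eq_zero.1 h0)
        refine ⟨algebraMap A _ a / algebraMap A _ s, ?_⟩
        rw [map_div₀, Ideal.ResidueField.map_algebraMap, Ideal.ResidueField.map_algebraMap, div_eq_iff h1]
        rw [← Ideal.algebraMap_residueField_eq_zero, map_sub, map_mul, sub_eq_zero] at hd
        rw [← hd, mul_comm]
      obtain ⟨x, y, -, rfl⟩ := IsFractionRing.div_surjective (A := B ⧸ q p) z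
      obtain ⟨x, rfl⟩ := Ideal.Quotient.mk_surjective x
      obtain ⟨y, rfl⟩ := Ideal.Quotient.mk_surjective y
      obtain ⟨c, hc⟩ := key x
      obtain ⟨c', hc'⟩ := key y
      refine ⟨c / c', ?_⟩
      show Ideal.ResidueField.map p.1 (q p) (algebraMap A B) (hqp p).symm (c / c') = _
      rw [map_div₀, hc, hc', Ideal.algebraMap_quotient_residueField_mk, Ideal.algebraMap_quotient_residueField_mk]
    haveI : FiniteDimensional p.1.ResidueField (q p).ResidueField :=
      Module.Finite.of_surjective (Algebra.linearMap _ _) hsurj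
    exact FinIntClosure.finite_integralClosure k (A ⧸ p.1) p.1.ResidueField (q p).ResidueField
  haveI : ∀ p : minimalPrimes A, Module.Finite A (integralClosure (A ⧸ p.1) (q p).ResidueField) := fun p => by
    haveI := hCfin p
    exact Module.Finite.trans (A ⧸ p.1) _
  have hint : ∀ (p : minimalPrimes A) (b : B), IsIntegral (A ⧸ p.1) (algebraMap B (q p).ResidueField b) := fun p b =>
    ((Algebra.IsIntegral.isIntegral (R := A) b).map (IsScalarTower.toAlgHom A B (q p).ResidueField)).tower_top
  let Φ : B →ₗ[A] ((p : minimalPrimes A) → integralClosure (A ⧸ p.1) (q p).ResidueField) :=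
    LinearMap.pi fun p =>
      { toFun := fun b => ⟨algebraMap B (q p).ResidueField b, hint p b⟩
        map_add' := fun b b' => Subtype.ext (map_add _ _ _)
        map_smul' := fun a b => Subtype.ext (by
          show algebraMap B (q p).ResidueField (a • b) = a • algebraMap B (q p).ResidueField b
          rw [Algebra.smul_def, Algebra.smul_def, map_mul, ← IsScalarTower.algebraMap_apply]) }
  refine Module.Finite.of_injective Φ ((injective_iff_map_eq_zero _).2 fun b hb => IsReduced.eq_zero _ (mem_nilradical.1 ?_))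
  rw [nilradical_eq_sInf, Ideal.mem_sInf]
  intro Q hQ
  have hQ' : Q.IsPrime := hQ
  haveI := hQ'.comap (algebraMap A B)
  obtain ⟨p₀, hp₀, hle⟩ := Ideal.exists_minimalPrimes_le (bot_le : ⊥ ≤ Q.comap (algebraMap A B))
  let p : minimalPrimes A := ⟨p₀, hp₀⟩
  obtain ⟨Q', hQ'le, hQ'pr, hQ'c⟩ := Ideal.exists_ideal_over_prime_of_isIntegral (Q.comap (algebraMap A B)) (q p)
    (by rw [hqp]; exact hle)
  rw [h.uniq Q Q' hQ' hQ'pr hQ'c.symm]
  refine hQ'le (Ideal.algebraMap_residueField_eq_zero.1 ?_)
  exact congrArg Subtype.val (congrFun hb p)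

/-- The cokernel has finite length in dimension one. -/
theorem isArtinian_coker [IsNoetherianRing A] [IsReduced B] [Ring.KrullDimLE 1 A] [Module.Finite A B] (h : IsSub A B) :
    IsArtinian A (B ⧸ LinearMap.range (Algebra.linearMap A B)) := by
  classical
  let Q := B ⧸ LinearMap.range (Algebra.linearMap A B)
  let I := Module.annihilator A Q
  have hmax : ∀ p : Ideal A, p.IsPrime → I ≤ p → p.IsMaximal := by
    intro p hp hIp
    rcases Ring.krullDimLE_one_iff.1 ‹Ring.KrullDimLE 1 A› p hp with hm | hm
    · exfalso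
      obtain ⟨s, hspan⟩ := (Module.Finite.fg_top : (⊤ : Submodule A B).FG)
      choose t ht a ha using exists_denom h p hm
      have hT : ∏ b ∈ s, t b ∉ p := fun h1 => by
        obtain ⟨b, -, hb⟩ := hp.prod_mem_iff.1 h1
        exact ht b hb
      refine hT (hIp (Module.mem_annihilator.2 fun z => ?_))
      obtain ⟨b, rfl⟩ := Submodule.Quotient.mk_surjective _ z
      rw [← Submodule.Quotient.mk_smul, Submodule.Quotient.mk_eq_zero]
      have hb : b ∈ Submodule.span A (s : Set B) := hspan ▸ Submodule.mem_top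
      induction hb using Submodule.span_induction with
      | mem x hx =>
        refine ⟨(∏ b ∈ s.erase x, t b) * a x, ?_⟩
        rw [Algebra.linearMap_apply, map_mul, ha, Algebra.smul_def, ← mul_assoc, ← map_mul,
          Finset.prod_erase_mul _ _ (Finset.mem_coe.1 hx)]
      | zero => simp
      | add x y _ _ hx hy => rw [smul_add]; exact add_mem hx hy
      | smul r x _ hx => rw [smul_comm]; exact Submodule.smul_mem _ r hx
    · exact hm
  haveI : Ring.KrullDimLE 0 (A ⧸ I) := Ring.krullDimLE_zero_iff.2 fun P hP => by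
    have h1 := hmax (P.comap (Ideal.Quotient.mk I)) inferInstance
      (fun x hx => by rw [Ideal.mem_comap, Ideal.Quotient.eq_zero_iff_mem.2 hx]; exact P.zero_mem)
    refine ⟨⟨hP.ne_top, fun J hJ => ?_⟩⟩
    have h2 : P.comap (Ideal.Quotient.mk I) < J.comap (Ideal.Quotient.mk I) :=
      lt_of_le_of_ne (Ideal.comap_mono hJ.le) fun e => hJ.ne (Ideal.comap_injective_of_surjective _ Ideal.Quotient.mk_surjective e)
    exact Ideal.comap_eq_top_iff.1 (h1.1.2 _ h2)
  haveI : IsArtinianRing (A ⧸ I) := isArtinianRing_iff_krullDimLE_zero.2 inferInstance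
  letI : Module (A ⧸ I) Q := Module.quotientAnnihilator
  haveI : IsScalarTower A (A ⧸ I) Q := ⟨fun a x q => by
    obtain ⟨x, rfl⟩ := Ideal.Quotient.mk_surjective x
    show (a * x) • q = a • (x • q)
    exact mul_smul a x q⟩
  haveI : Module.Finite (A ⧸ I) Q := Module.Finite.of_restrictScalars_finite A _ _
  haveI : IsArtinian (A ⧸ I) Q := inferInstance
  exact isArtinian_of_surjective_algebraMap (R := A ⧸ I) Ideal.Quotient.mk_surjective

/-- A nontrivial extension has a dual number quotient extending a residue field. -/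
theorem exists_dualNumber [IsNoetherianRing A] [IsReduced B] [Ring.KrullDimLE 1 A] [Module.Finite A B] (h : IsSub A B)
    (hne : ¬ Function.Surjective (algebraMap A B)) :
    ∃ (p : Ideal A) (_ : p.IsMaximal) (ρ : B →+* DualNumber (A ⧸ p)), Function.Surjective ρ ∧
      ∀ a, ρ (algebraMap A B a) = TrivSqZeroExt.inl (Ideal.Quotient.mk p a) := by
  classical
  let Q := B ⧸ LinearMap.range (Algebra.linearMap A B)
  let I := Module.annihilator A Q
  obtain ⟨p, hp, hIp⟩ : ∃ p : Ideal A, p.IsMaximal ∧ I ≤ p := by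
    refine Ideal.exists_le_maximal I fun hI => hne fun b => ?_
    have := Module.mem_annihilator.1 (hI ▸ Submodule.mem_top : (1 : A) ∈ I) (Submodule.Quotient.mk b)
    rw [one_smul, Submodule.Quotient.mk_eq_zero] at this
    obtain ⟨a, ha⟩ := this
    exact ⟨a, ha⟩
  haveI := hp
  obtain ⟨q, hq, hqp⟩ := h.surj p inferInstance
  haveI := hq
  haveI : IsNoetherianRing B := IsNoetherianRing.of_finite A B
  let pB := p.map (algebraMap A B)
  have hpq : pB ≤ q := Ideal.map_le_iff_le_comap.2 hqp.ge
  have hres : ∀ b : B, ∃ a : A, b - algebraMap A B a ∈ q := by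
    intro b
    obtain ⟨a, s, hs, hd⟩ := h.res q hq b
    have hsp : s ∉ p := fun h1 => hs (hpq (Ideal.mem_map_of_mem _ h1))
    obtain ⟨u, i, hi, hu⟩ := hp.exists_inv hsp
    refine ⟨u * a, ?_⟩
    have e : b - algebraMap A B (u * a) =
        algebraMap A B u * (algebraMap A B s * b - algebraMap A B a) + algebraMap A B i * b := by
      have := congrArg (algebraMap A B) hu
      rw [map_add, map_mul, map_one] at this
      rw [map_mul]
      linear_combination -b * this
    rw [e]
    exact add_mem (Ideal.mul_mem_left _ _ hd) (Ideal.mul_mem_right _ _ (hpq (Ideal.mem_map_of_mem _ hi)))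
  have hlt : q ^ 2 ⊔ pB < q := by
    refine lt_of_le_of_ne (sup_le (Ideal.pow_le_self two_ne_zero) hpq) fun he => ?_
    -- `q = pB`
    have hqe : q = pB := by
      refine le_antisymm ?_ hpq
      have hfg : (q.map (Ideal.Quotient.mk pB)).FG := Ideal.FG.map (IsNoetherian.noetherian q) _
      have hid : q.map (Ideal.Quotient.mk pB) ≤ q.map (Ideal.Quotient.mk pB) • q.map (Ideal.Quotient.mk pB) := by
        conv_lhs => rw [← he, Ideal.map_sup, Ideal.map_quotient_self, sup_bot_eq, pow_two, Ideal.map_mul]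
        exact le_of_eq (smul_eq_mul _ _).symm
      obtain ⟨r, hr, hr'⟩ := Submodule.exists_sub_one_mem_and_smul_eq_zero_of_fg_of_le_smul _ _ hfg hid
      intro x hx
      have h1 := hr' _ (Ideal.mem_map_of_mem (Ideal.Quotient.mk pB) hx)
      obtain ⟨r, rfl⟩ := Ideal.Quotient.mk_surjective r
      rw [smul_eq_mul, ← map_mul, Ideal.Quotient.eq_zero_iff_mem] at h1
      have hu : IsUnit (Ideal.Quotient.mk pB r) := by
        by_contra hu
        obtain ⟨M, hM, hrM⟩ := exists_max_ideal_of_mem_nonunits hu
        haveI := hM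
        have hMc : (M.comap (Ideal.Quotient.mk pB)).comap (algebraMap A B) = p := by
          refine (hp.eq_of_le (Ideal.IsPrime.ne_top inferInstance) fun a ha => ?_).symm
          rw [Ideal.mem_comap, Ideal.mem_comap, Ideal.Quotient.eq_zero_iff_mem.2 (Ideal.mem_map_of_mem _ ha)]
          exact M.zero_mem
        have hMq := h.uniq _ q inferInstance hq (hMc.trans hqp.symm)
        have h2 : Ideal.Quotient.mk pB r - 1 ∈ M := by
          refine Ideal.map_le_iff_le_comap.2 hMq.ge hr
        exact hM.ne_top ((Ideal.eq_top_iff_one _).2 (by simpa using M.sub_mem hrM h2))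
      obtain ⟨v, hv⟩ := hu.exists_left_inv
      obtain ⟨v, rfl⟩ := Ideal.Quotient.mk_surjective v
      rw [← map_mul, ← map_one (Ideal.Quotient.mk pB), Ideal.Quotient.eq] at hv
      have : x = v * (r * x) - (v * r - 1) * x := by ring
      rw [this]
      exact pB.sub_mem (pB.mul_mem_left _ h1) (pB.mul_mem_right _ hv)
    -- Nakayama
    have hQ : (⊤ : Submodule A Q) ≤ p • (⊤ : Submodule A Q) := by
      rintro z -
      obtain ⟨b, rfl⟩ := Submodule.Quotient.mk_surjective _ z
      obtain ⟨a, ha⟩ := hres b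
      rw [hqe] at ha
      have h1 : Submodule.Quotient.mk b = (Submodule.Quotient.mk (b - algebraMap A B a) : Q) :=
        (Submodule.Quotient.eq _).2 ⟨a, by rw [Algebra.linearMap_apply, sub_sub_cancel]⟩
      rw [h1]
      generalize b - algebraMap A B a = w at ha ⊢
      have hw : w ∈ p • (⊤ : Submodule A B) := by rw [Ideal.smul_top_eq_map]; exact ha
      have h2 := Submodule.mem_map_of_mem (f := (LinearMap.range (Algebra.linearMap A B)).mkQ) hw
      rw [Submodule.map_smul''] at h2
      exact Submodule.smul_mono le_rfl le_top h2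
    obtain ⟨r, hr, hr'⟩ := Submodule.exists_sub_one_mem_and_smul_eq_zero_of_fg_of_le_smul p _ Module.Finite.fg_top hQ
    have hrI : r ∈ I := Module.mem_annihilator.2 fun z => hr' z Submodule.mem_top
    exact hp.ne_top ((Ideal.eq_top_iff_one _).2 (by simpa using p.sub_mem (hIp hrI) hr))
  obtain ⟨J, ⟨hJ₁, hJ₂⟩, hJ⟩ := set_has_maximal_iff_noetherian.2 inferInstance
    {J : Ideal B | q ^ 2 ⊔ pB ≤ J ∧ J < q} ⟨_, le_rfl, hlt⟩
  obtain ⟨e, heq, heJ⟩ := SetLike.exists_of_lt hJ₂
  have htop : J ⊔ Ideal.span {e} = q := by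
    have hle : J ⊔ Ideal.span {e} ≤ q := sup_le hJ₂.le ((Ideal.span_singleton_le_iff_mem _).2 heq)
    by_contra hne'
    refine hJ _ ⟨hJ₁.trans le_sup_left, lt_of_le_of_ne hle hne'⟩ (lt_of_le_of_ne le_sup_left fun h1 => heJ ?_)
    rw [h1]
    exact Ideal.mem_sup_right (Ideal.mem_span_singleton_self e)
  have hq2 : q ^ 2 ≤ J := le_sup_left.trans hJ₁
  let κ := A ⧸ p
  let ι : κ →+* B ⧸ J := Ideal.Quotient.lift p ((Ideal.Quotient.mk J).comp (algebraMap A B)) fun a ha =>
    Ideal.Quotient.eq_zero_iff_mem.2 (hJ₁ (Ideal.mem_sup_right (Ideal.mem_map_of_mem _ ha)))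
  letI : Algebra κ (B ⧸ J) := ι.toAlgebra
  let ε : B ⧸ J := Ideal.Quotient.mk J e
  let L : DualNumber κ →ₐ[κ] B ⧸ J := DualNumber.lift ⟨(Algebra.ofId κ (B ⧸ J), ε),
    (by rw [← map_mul, Ideal.Quotient.eq_zero_iff_mem]; exact hq2 (by rw [pow_two]; exact Ideal.mul_mem_mul heq heq)),
    fun _ => Commute.all _ _⟩
  have hL : ∀ x y : κ, L (TrivSqZeroExt.inl x + TrivSqZeroExt.inr y) = ι x + ι y * ε := fun x y => by
    simp [L, DualNumber.lift_apply_apply, RingHom.algebraMap_toAlgebra]
  have hsurj : Function.Surjective L := by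
    intro z
    obtain ⟨b, rfl⟩ := Ideal.Quotient.mk_surjective z
    obtain ⟨a, ha⟩ := hres b
    rw [← htop] at ha
    obtain ⟨j, hj, w, hw, hjw⟩ := Submodule.mem_sup.1 ha
    obtain ⟨r, rfl⟩ := Ideal.mem_span_singleton'.1 hw
    obtain ⟨c, hc⟩ := hres r
    refine ⟨TrivSqZeroExt.inl (Ideal.Quotient.mk p a) + TrivSqZeroExt.inr (Ideal.Quotient.mk p c), ?_⟩
    rw [hL]
    show Ideal.Quotient.mk J (algebraMap A B a) + Ideal.Quotient.mk J (algebraMap A B c) * Ideal.Quotient.mk J e = _
    rw [← map_mul, ← map_add, Ideal.Quotient.eq]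
    have e1 : algebraMap A B a + algebraMap A B c * e - b = -((r - algebraMap A B c) * e) - j := by
      linear_combination hjw
    rw [e1]
    exact J.sub_mem (J.neg_mem (hq2 (by rw [pow_two]; exact Ideal.mul_mem_mul hc heq))) hj
  have hinj : Function.Injective L := by
    refine (injective_iff_map_eq_zero _).2 fun d hd => ?_
    obtain ⟨a, ha⟩ := Ideal.Quotient.mk_surjective d.fst
    obtain ⟨c, hc⟩ := Ideal.Quotient.mk_surjective d.snd
    rw [← TrivSqZeroExt.inl_fst_add_inr_snd_eq d, hL, ← ha, ← hc] at hd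
    change Ideal.Quotient.mk J (algebraMap A B a) + Ideal.Quotient.mk J (algebraMap A B c) * Ideal.Quotient.mk J e = 0 at hd
    rw [← map_mul, ← map_add, Ideal.Quotient.eq_zero_iff_mem] at hd
    have hap : a ∈ p := by
      rw [← hqp, Ideal.mem_comap]
      simpa using q.sub_mem (hJ₂.le hd) (q.mul_mem_left (algebraMap A B c) heq)
    have hcJ : algebraMap A B c * e ∈ J := by
      simpa using J.sub_mem hd (hJ₁ (Ideal.mem_sup_right (Ideal.mem_map_of_mem _ hap)))
    have hcp : c ∈ p := by
      by_contra hcp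
      obtain ⟨u, i, hi, hu⟩ := hp.exists_inv hcp
      have e1 : e = algebraMap A B u * (algebraMap A B c * e) + algebraMap A B i * e := by
        have := congrArg (algebraMap A B) hu
        rw [map_add, map_mul, map_one] at this
        linear_combination -e * this
      exact heJ (e1 ▸ J.add_mem (Ideal.mul_mem_left J _ hcJ)
        (Ideal.mul_mem_right _ J (hJ₁ (Ideal.mem_sup_right (Ideal.mem_map_of_mem _ hi)))))
    exact TrivSqZeroExt.ext (by rw [← ha, Ideal.Quotient.eq_zero_iff_mem.2 hap]; rfl)
      (by rw [← hc, Ideal.Quotient.eq_zero_iff_mem.2 hcp]; rfl)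
  let E := RingEquiv.ofBijective (L : DualNumber κ →+* B ⧸ J) ⟨hinj, hsurj⟩
  refine ⟨p, hp, E.symm.toRingHom.comp (Ideal.Quotient.mk J), E.symm.surjective.comp Ideal.Quotient.mk_surjective, fun a => ?_⟩
  show E.symm (Ideal.Quotient.mk J (algebraMap A B a)) = _
  rw [RingEquiv.symm_apply_eq]
  show _ = L (TrivSqZeroExt.inl (Ideal.Quotient.mk p a))
  have := hL (Ideal.Quotient.mk p a) 0
  rw [TrivSqZeroExt.inr_zero, add_zero, map_zero, zero_mul, add_zero] at this
  rw [this]
  rfl

end Groth.Agent.DualChainLib
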