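import Groth.Agent.DualChainLib.Alg
import Groth.Agent.FerrandPush.Finite
import Groth.Agent.FerrandPush.Of
import Groth.Agent.Codim1Iso.Scheme

/-!
One step of the chain: peeling off a pushout along a dual number point.
-/

set_option autoImplicit false
set_option backward.isDefEq.respectTransparency false
set_option backward.defeqAttrib.useBackward true
set_option linter.style.haveILetI false
set_option linter.unusedSectionVars false
set_option maxHeartbeats 1000000

universe u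

open CategoryTheory CategoryTheory.Limits AlgebraicGeometry TopologicalSpace

namespace Groth.Agent.DualChainLib

/-- Injective on points, with the same residue fields. -/
structure IsSubHom {X Y : Scheme.{u}} (f : X ⟶ Y) : Prop where
  inj : Function.Injective f
  res : ∀ x : X, Function.Surjective (f.residueFieldMap x)

/-- The ring map of such a morphism. -/
theorem isSub_app {X Y : Scheme.{u}} (β : X ⟶ Y) [IsIntegralHom β] [Surjective β] (hβ : IsSubHom β)
    {V : Y.Opens} (hV : IsAffineOpen V) :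
    letI := (β.app V).hom.toAlgebra
    IsSub Γ(Y, V) Γ(X, β ⁻¹ᵁ V) := by
  let A := Γ(Y, V)
  let B := Γ(X, β ⁻¹ᵁ V)
  letI : Algebra A B := (β.app V).hom.toAlgebra
  have hB : IsAffineOpen (β ⁻¹ᵁ V) := hV.preimage β
  have hcomm : ∀ q : PrimeSpectrum B, β (hB.fromSpec q) = hV.fromSpec (PrimeSpectrum.comap (algebraMap A B) q) :=
    fun q => congrArg (fun k : Spec Γ(X, β ⁻¹ᵁ V) ⟶ Y => k q) (Codim1Iso.isPullback_fromSpec β hV).w
  have hmemV : ∀ q : PrimeSpectrum B, hB.fromSpec q ∈ β ⁻¹ᵁ V := fun q => by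
    have h0 : hB.fromSpec q ∈ Set.range hB.fromSpec := ⟨q, rfl⟩
    rwa [hB.range_fromSpec] at h0
  refine ⟨fun p hp => ?_, fun q q' hq hq' h => ?_, fun q hq b => ?_⟩
  · obtain ⟨x, hx⟩ := β.surjective (hV.fromSpec ⟨p, hp⟩)
    obtain ⟨q, hqx⟩ : x ∈ Set.range hB.fromSpec := by
      rw [hB.range_fromSpec]
      show β x ∈ V
      rw [hx]
      have h0 : hV.fromSpec ⟨p, hp⟩ ∈ Set.range hV.fromSpec := ⟨_, rfl⟩
      rwa [hV.range_fromSpec] at h0
    refine ⟨q.asIdeal, q.2, congrArg PrimeSpectrum.asIdeal (hV.fromSpec.isOpenEmbedding.injective (?_ :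
      hV.fromSpec (PrimeSpectrum.comap (algebraMap A B) q) = hV.fromSpec ⟨p, hp⟩))⟩
    rw [← hcomm, hqx, hx]
  · have h1 : β (hB.fromSpec ⟨q, hq⟩) = β (hB.fromSpec ⟨q', hq'⟩) := by
      rw [hcomm, hcomm]
      exact congrArg hV.fromSpec (PrimeSpectrum.ext h)
    exact congrArg PrimeSpectrum.asIdeal (hB.fromSpec.isOpenEmbedding.injective (hβ.inj h1))
  · let Q : PrimeSpectrum B := ⟨q, hq⟩
    let z := hB.fromSpec Q
    have hz : z ∈ β ⁻¹ᵁ V := hmemV Q
    have hνz : β z ∈ V := hz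
    letI := TopCat.Presheaf.algebra_section_stalk Y.presheaf ⟨β z, hνz⟩
    haveI := hV.isLocalization_stalk ⟨β z, hνz⟩
    have hP : (hV.primeIdealOf ⟨β z, hνz⟩).asIdeal = q.comap (algebraMap A B) :=
      congrArg PrimeSpectrum.asIdeal (hV.fromSpec.isOpenEmbedding.injective
        ((hV.fromSpec_primeIdealOf ⟨β z, hνz⟩).trans (hcomm Q)))
    obtain ⟨w, hw⟩ := hβ.res z (X.residue z (X.presheaf.germ (β ⁻¹ᵁ V) z hz b))
    obtain ⟨v, rfl⟩ := IsLocalRing.residue_surjective (R := Y.presheaf.stalk (β z)) w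
    obtain ⟨⟨a, s⟩, has⟩ := IsLocalization.surj (hV.primeIdealOf ⟨β z, hνz⟩).asIdeal.primeCompl v
    refine ⟨a, s, fun h => s.2 (hP.ge h), ?_⟩
    letI := TopCat.Presheaf.algebra_section_stalk X.presheaf ⟨z, hz⟩
    haveI := hB.isLocalization_stalk' Q hz
    rw [← IsLocalization.AtPrime.to_map_mem_maximal_iff (X.presheaf.stalk z) q, ← IsLocalRing.residue_eq_zero_iff]
    show X.residue z (X.presheaf.germ (β ⁻¹ᵁ V) z hz (β.app V (s : A) * b - β.app V a)) = 0
    rw [map_sub, map_sub, map_mul, map_mul, ← Scheme.Hom.germ_stalkMap_apply, ← Scheme.Hom.germ_stalkMap_apply, ← hw]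
    have e : ∀ x, X.residue z (β.stalkMap z x) = β.residueFieldMap z (Y.residue (β z) x) := fun x =>
      (congrArg (fun k : Y.presheaf.stalk (β z) ⟶ X.residueField z => k.hom x) (Scheme.residue_residueFieldMap β z)).symm
    rw [e, e, sub_eq_zero, ← map_mul]
    refine congrArg (β.residueFieldMap z) ?_
    show Y.residue (β z) _ * Y.residue (β z) v = _
    rw [← map_mul, mul_comm]
    exact congrArg (Y.residue (β z)) has

/-- Peel off one dual number point. -/
theorem exists_step {X X' : Scheme.{u}} [IsReduced X] [IsReduced X'] [IsLocallyNoetherian X'] [JacobsonSpace X']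
    (β : X ⟶ X') [IsFinite β] [Surjective β] (hβ : IsSubHom β)
    {V : X'.Opens} (hV : IsAffineOpen V) [Ring.KrullDimLE 1 Γ(X', V)]
    (hns : ¬ Function.Surjective (β.app V)) :
    ∃ (P : Scheme.{u}) (a : X ⟶ P) (γ : P ⟶ X'), a ≫ γ = β ∧ IsFinite γ ∧ Surjective γ ∧ IsReduced P ∧
      IsSubHom γ ∧ IsSchemeTheoreticallyDominant a ∧ QuasiCompact a ∧
      (∃ (κ : Type u) (_ : Field κ) (i : Spec (CommRingCat.of (DualNumber κ)) ⟶ X) (b : Spec (CommRingCat.of κ) ⟶ P),
        IsClosedImmersion i ∧ IsClosedImmersion b ∧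
          IsPushout i (Spec.map (CommRingCat.ofHom (algebraMap κ (DualNumber κ)))) a b) ∧
      ¬ Function.Surjective (a.app (γ ⁻¹ᵁ V)) := by
  classical
  haveI : JacobsonSpace X := LocallyOfFiniteType.jacobsonSpace β
  let A := Γ(X', V)
  let B := Γ(X, β ⁻¹ᵁ V)
  letI : Algebra A B := (β.app V).hom.toAlgebra
  haveI : Module.Finite A B := β.finite_app V hV
  haveI : IsNoetherianRing A := IsLocallyNoetherian.component_noetherian ⟨V, hV⟩
  have hB : IsAffineOpen (β ⁻¹ᵁ V) := hV.preimage β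
  obtain ⟨p, hp, ρ, hρ, hρa⟩ := exists_dualNumber (isSub_app β hβ hV) hns
  haveI := hp
  letI : Field (A ⧸ p) := Ideal.Quotient.field p
  let κ := A ⧸ p
  let ξ : Spec (CommRingCat.of (DualNumber κ)) ⟶ Spec (CommRingCat.of κ) :=
    Spec.map (CommRingCat.ofHom (algebraMap κ (DualNumber κ)))
  have hξfin : IsFinite ξ := by
    rw [IsFinite.SpecMap_iff, CommRingCat.hom_ofHom, RingHom.finite_algebraMap]
    exact inferInstanceAs (Module.Finite κ (κ × κ))
  haveI := hξfin
  haveI : Surjective ξ := ⟨fun y => by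
    haveI : Nonempty ↥(Spec (CommRingCat.of (DualNumber κ))) :=
      inferInstanceAs (Nonempty (PrimeSpectrum (DualNumber κ)))
    exact ⟨Classical.arbitrary _, Subsingleton.elim (α := PrimeSpectrum κ) _ _⟩⟩
  haveI : IsDominant ξ := ⟨ξ.surjective.denseRange⟩
  haveI : IsSchemeTheoreticallyDominant ξ := .of_isDominant ξ
  let i : Spec (CommRingCat.of (DualNumber κ)) ⟶ X := Spec.map (CommRingCat.ofHom ρ) ≫ hB.fromSpec
  haveI : IsClosedImmersion (Spec.map (CommRingCat.ofHom ρ)) := IsClosedImmersion.spec_of_surjective _ hρ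
  haveI : IsClosedImmersion i := by
    refine IsClosedImmersion.of_isPreimmersion _ ?_
    have hcl : ∀ d : ↥(Spec (CommRingCat.of (DualNumber κ))), i d ∈ closedPoints X := by
      intro d
      have h1 : Spec.map (CommRingCat.ofHom ρ) d ∈ closedPoints (Spec Γ(X, β ⁻¹ᵁ V)) := by
        have hd : d ∈ closedPoints ↥(Spec (CommRingCat.of (DualNumber κ))) := by
          rw [mem_closedPoints_iff]
          refine (PrimeSpectrum.isClosed_singleton_iff_isMaximal (R := DualNumber κ) d).2 ?_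
          haveI : IsArtinianRing (DualNumber κ) := by
            haveI : Module.Finite κ (DualNumber κ) := inferInstanceAs (Module.Finite κ (κ × κ))
            exact IsArtinianRing.of_finite κ (DualNumber κ)
          exact IsArtinianRing.isMaximal_of_isPrime _
        refine mem_closedPoints_iff.2 ?_
        have h2 := (Spec.map (CommRingCat.ofHom ρ)).isClosedEmbedding.isClosedMap _ (mem_closedPoints_iff.1 hd)
        rwa [Set.image_singleton] at h2
      rw [← hB.fromSpec.isOpenEmbedding.preimage_closedPoints] at h1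
      exact h1
    haveI : Finite ↥(Spec (CommRingCat.of (DualNumber κ))) := by
      haveI : Module.Finite κ (DualNumber κ) := inferInstanceAs (Module.Finite κ (κ × κ))
      haveI : IsArtinianRing (DualNumber κ) := IsArtinianRing.of_finite κ (DualNumber κ)
      exact inferInstanceAs (Finite (PrimeSpectrum (DualNumber κ)))
    rw [show Set.range i = ⋃ d, {i d} by simp]
    exact isClosed_iUnion_of_finite fun d => (mem_closedPoints_iff.1 (hcl d))
  have haff : ∀ y : ↥(Spec (CommRingCat.of κ)), ∃ U : X.Opens, IsAffineOpen U ∧ ξ ⁻¹' {y} ⊆ i ⁻¹' (U : Set X) := fun y =>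
    ⟨β ⁻¹ᵁ V, hB, fun d _ => by
      have h0 : i d ∈ Set.range hB.fromSpec := ⟨_, rfl⟩
      rwa [hB.range_fromSpec] at h0⟩
  obtain ⟨P, a, b, hP, -, haI, hbC⟩ := FerrandPush.exists_pushout_integral i ξ haff
  haveI := haI
  haveI := hbC
  obtain ⟨-, -, -, hjoint⟩ := FerrandPush.props_of_isPushout haff hP
  let c : Spec (CommRingCat.of κ) ⟶ X' := Spec.map (CommRingCat.ofHom (Ideal.Quotient.mk p)) ≫ hV.fromSpec
  have hic : i ≫ β = ξ ≫ c := by
    show (Spec.map (CommRingCat.ofHom ρ) ≫ hB.fromSpec) ≫ β = ξ ≫ Spec.map (CommRingCat.ofHom (Ideal.Quotient.mk p)) ≫ hV.fromSpec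
    rw [Category.assoc, (Codim1Iso.isPullback_fromSpec β hV).w, ← Category.assoc, ← Category.assoc, ← Spec.map_comp,
      ← Spec.map_comp]
    congr 2
    refine CommRingCat.hom_ext (RingHom.ext fun x => ?_)
    show ρ (algebraMap A B x) = algebraMap κ (DualNumber κ) (Ideal.Quotient.mk p x)
    rw [hρa]
    rfl
  let γ := hP.desc β c hic
  have haγ : a ≫ γ = β := hP.inl_desc _ _ _
  have hbγ : b ≫ γ = c := hP.inr_desc _ _ _
  have hsurj : Function.Surjective a := by
    intro y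
    rcases hjoint y with h | ⟨y₀, rfl⟩
    · exact h
    · obtain ⟨d, rfl⟩ := ξ.surjective y₀
      exact ⟨i d, congrArg (fun k : Spec (CommRingCat.of (DualNumber κ)) ⟶ P => k d) hP.w⟩
  haveI : Surjective a := ⟨hsurj⟩
  have hqa : QuasiCompact a := inferInstance
  -- `a` is schematically dominant
  let j := a.imageι
  have hjb : j.ker ≤ b.ker := by
    have h1 : (ξ ≫ b).ker = b.ker := by
      rw [Scheme.Hom.ker_comp, ξ.ker_eq_bot, Scheme.IdealSheafData.map_bot]
    rw [show j.ker = a.ker from Scheme.IdealSheafData.ker_subschemeι _, ← h1, ← hP.w]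
    exact Scheme.Hom.le_ker_comp _ _
  let l := IsClosedImmersion.lift j b hjb
  have hlj : l ≫ j = b := IsClosedImmersion.lift_fac _ _ _
  have hcond : i ≫ a.toImage = ξ ≫ l := by
    rw [← cancel_mono j, Category.assoc i a.toImage j, a.toImage_imageι, Category.assoc ξ l j, hlj]
    exact hP.w
  let σ := hP.desc a.toImage l hcond
  have hσ : σ ≫ j = 𝟙 P := by
    refine hP.hom_ext ?_ ?_
    · rw [← Category.assoc, hP.inl_desc, a.toImage_imageι, Category.comp_id]
    · rw [← Category.assoc, hP.inr_desc, hlj, Category.comp_id]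
  haveI : IsSplitEpi j := IsSplitEpi.mk' ⟨σ, hσ⟩
  haveI : IsIso j := isIso_of_mono_of_isSplitEpi j
  haveI hastd : IsSchemeTheoreticallyDominant a :=
    ⟨(Scheme.IdealSheafData.ker_subschemeι _).symm.trans (Scheme.Hom.ker_eq_bot j)⟩
  haveI : IsReduced P := IsSchemeTheoreticallyDominant.isReduced a
  -- properties of `γ`
  haveI : IsFinite (a ≫ γ) := by rw [haγ]; infer_instance
  haveI : LocallyOfFiniteType (b ≫ γ) := by
    rw [hbγ]
    haveI : IsClosedImmersion (Spec.map (CommRingCat.ofHom (Ideal.Quotient.mk p))) :=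
      IsClosedImmersion.spec_of_surjective _ Ideal.Quotient.mk_surjective
    exact inferInstanceAs (LocallyOfFiniteType (Spec.map (CommRingCat.ofHom (Ideal.Quotient.mk p)) ≫ hV.fromSpec))
  haveI : LocallyOfFiniteType γ := FerrandPush.locallyOfFiniteType_of_isPushout hP γ
  haveI : LocallyOfFiniteType a := locallyOfFiniteType_of_comp a γ
  haveI : IsFinite a := (IsFinite.iff_isIntegralHom_and_locallyOfFiniteType a).2 ⟨inferInstance, inferInstance⟩
  haveI : IsSeparated γ := by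
    let mm := pullback.map (a ≫ γ) (a ≫ γ) γ γ a a (𝟙 X') (Category.comp_id _) (Category.comp_id _)
    haveI : IsFinite mm := MorphismProperty.pullbackMap (P := @IsFinite) ‹_› ‹_› rfl rfl
    have hdiag : pullback.diagonal (a ≫ γ) ≫ mm = a ≫ pullback.diagonal γ := by
      apply pullback.hom_ext <;> simp [mm]
    refine ⟨IsClosedImmersion.of_isPreimmersion _ ?_⟩
    have : Set.range (pullback.diagonal γ) = mm '' Set.range (pullback.diagonal (a ≫ γ)) := by
      ext z
      constructor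
      · rintro ⟨y, rfl⟩
        obtain ⟨x, rfl⟩ := hsurj y
        exact ⟨_, ⟨x, rfl⟩, congrArg (fun k => k x) hdiag⟩
      · rintro ⟨_, ⟨x, rfl⟩, rfl⟩
        exact ⟨a x, (congrArg (fun k => k x) hdiag).symm⟩
    rw [this]
    exact mm.isClosedMap _ (pullback.diagonal (a ≫ γ)).isClosedEmbedding.isClosed_range
  have hcoe : ∀ x, γ (a x) = β x := fun x => congrArg (fun k : X ⟶ X' => k x) haγ
  haveI : UniversallyClosed γ := UniversallyClosed.of_comp_surjective a γ
  haveI : IsProper γ := { }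
  have hinjγ : Function.Injective γ := by
    intro y y' h
    obtain ⟨x, rfl⟩ := hsurj y
    obtain ⟨x', rfl⟩ := hsurj y'
    rw [hcoe, hcoe] at h
    rw [hβ.inj h]
  haveI : LocallyQuasiFinite γ := LocallyQuasiFinite.of_injective hinjγ
  have hγfin : IsFinite γ := IsFinite.of_isProper_of_locallyQuasiFinite γ
  have hγsurj : Surjective γ := ⟨fun z => by
    obtain ⟨x, hx⟩ := β.surjective z
    exact ⟨a x, (hcoe x).trans hx⟩⟩
  have hγres : ∀ y, Function.Surjective (γ.residueFieldMap y) := by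
    intro y w
    obtain ⟨x, rfl⟩ := hsurj y
    have hres : Function.Surjective ((a ≫ γ).residueFieldMap x) := by
      rw [haγ]; exact hβ.res x
    obtain ⟨v, hv⟩ := hres (a.residueFieldMap x w)
    rw [Scheme.residueFieldMap_comp] at hv
    exact ⟨v, RingHom.injective (a.residueFieldMap x).hom hv⟩
  refine ⟨P, a, γ, haγ, hγfin, hγsurj, inferInstance, ⟨hinjγ, hγres⟩, hastd, hqa,
    ⟨κ, inferInstance, i, b, inferInstance, inferInstance, hP⟩, fun hs => ?_⟩
  -- the new ring is smaller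
  obtain ⟨b₀, hb₀⟩ := hρ DualNumber.eps
  have hUeq : a ⁻¹ᵁ (γ ⁻¹ᵁ V) = β ⁻¹ᵁ V := by rw [← Scheme.Hom.comp_preimage, haγ]
  obtain ⟨t, ht⟩ := hs (X.presheaf.map (eqToHom hUeq).op b₀)
  have hiU : ⊤ ≤ i ⁻¹ᵁ (β ⁻¹ᵁ V) := fun d _ => by
    have h0 : i d ∈ Set.range hB.fromSpec := ⟨_, rfl⟩
    rwa [hB.range_fromSpec] at h0
  have hbW : ⊤ ≤ b ⁻¹ᵁ (γ ⁻¹ᵁ V) := fun y _ => by
    show (b ≫ γ) y ∈ V
    rw [hbγ]
    have h0 : c y ∈ Set.range hV.fromSpec := ⟨_, rfl⟩
    rwa [hV.range_fromSpec] at h0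
  let ΓD := Scheme.ΓSpecIso (CommRingCat.of (DualNumber κ))
  have h1 : i.appLE (β ⁻¹ᵁ V) ⊤ hiU ≫ ΓD.hom = CommRingCat.ofHom ρ := by
    have h0 : hB.fromSpec.appLE (β ⁻¹ᵁ V) ⊤ (by rw [hB.fromSpec_preimage_self]) = (Scheme.ΓSpecIso _).inv := by
      rw [Scheme.Hom.appLE, hB.fromSpec_app_self, Category.assoc, ← Functor.map_comp]
      exact (congrArg _ ((congrArg _ (Subsingleton.elim _ (𝟙 _))).trans (CategoryTheory.Functor.map_id _ _))).trans
        (Category.comp_id _)
    rw [show i.appLE (β ⁻¹ᵁ V) ⊤ hiU = hB.fromSpec.appLE (β ⁻¹ᵁ V) ⊤ (by rw [hB.fromSpec_preimage_self]) ≫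
      (Spec.map (CommRingCat.ofHom ρ)).appLE ⊤ ⊤ le_top from (Scheme.Hom.appLE_comp_appLE _ _ _ _ _ _ _).symm, h0,
      show (Spec.map (CommRingCat.ofHom ρ)).appLE ⊤ ⊤ le_top = (Spec.map (CommRingCat.ofHom ρ)).appTop from
        Scheme.Hom.appLE_eq_app _, Category.assoc]
    rw [Scheme.ΓSpecIso_naturality]
    exact Iso.inv_hom_id_assoc _ _
  have h2 : a.appLE (γ ⁻¹ᵁ V) (β ⁻¹ᵁ V) hUeq.ge ≫ i.appLE (β ⁻¹ᵁ V) ⊤ hiU =
      b.appLE (γ ⁻¹ᵁ V) ⊤ hbW ≫ ξ.appTop := by
    rw [Scheme.Hom.appLE_comp_appLE, show ξ.appTop = ξ.appLE ⊤ ⊤ le_top from (Scheme.Hom.appLE_eq_app _).symm,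
      Scheme.Hom.appLE_comp_appLE]
    congr 1
    exact hP.w
  have h3 : a.appLE (γ ⁻¹ᵁ V) (β ⁻¹ᵁ V) hUeq.ge t = b₀ := by
    show X.presheaf.map _ (a.app (γ ⁻¹ᵁ V) t) = b₀
    rw [ht, ← CommRingCat.comp_apply, ← Functor.map_comp, Subsingleton.elim (_ ≫ _) (𝟙 _), CategoryTheory.Functor.map_id]
    rfl
  let y := b.appLE (γ ⁻¹ᵁ V) ⊤ hbW t
  have h4 : ρ b₀ = algebraMap κ (DualNumber κ) ((Scheme.ΓSpecIso (CommRingCat.of κ)).hom y) := by
    have e2 := congrArg (fun k => ΓD.hom (k.hom t)) h2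
    have e3 := congrArg (fun k => k.hom (b.appLE (γ ⁻¹ᵁ V) ⊤ hbW t))
      (Scheme.ΓSpecIso_naturality (CommRingCat.ofHom (algebraMap κ (DualNumber κ))))
    simp only [CommRingCat.hom_comp, RingHom.comp_apply, h3] at e2 e3
    exact ((congrArg (fun k => k.hom b₀) h1).symm.trans e2).trans e3
  rw [hb₀] at h4
  have h5 := congrArg TrivSqZeroExt.snd h4
  rw [DualNumber.snd_eps, TrivSqZeroExt.algebraMap_eq_inl, TrivSqZeroExt.snd_inl] at h5
  exact one_ne_zero h5

end Groth.Agent.DualChainLib
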